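import Groth.Agent.Valuative.NhdProper
import Groth.Agent.PropsBasic2.Reduced

/-!
# Properness at a point through discrete valuation rings at the maximal points
-/

set_option backward.isDefEq.respectTransparency false

universe u

open CategoryTheory Limits AlgebraicGeometry IsLocalRing

namespace Groth.Valuative

/-- A point with values in a field factors through the residue field of its image. -/
theorem exists_factor_residue {X : Scheme.{u}} {K : Type u} [Field K]
    (k : Spec (CommRingCat.of K) ⟶ X) {x : X} (h : k (closedPoint K) = x) :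
    ∃ θ : X.residueField x ⟶ CommRingCat.of K, Spec.map θ ≫ X.fromSpecResidueField x = k := by
  subst h
  exact ⟨_, (Scheme.descResidueField_stalkClosedPointTo_fromSpecResidueField K X k)⟩

/-- Existence of lifts through `y` at discrete valuation rings of the residue fields of the points
of `G` gives properness over a neighbourhood of `y`. -/
theorem exists_proper_nhd_of_through {C Y : Scheme.{u}} [IsLocallyNoetherian Y] (φ : C ⟶ Y)
    [IsSeparated φ] [LocallyOfFiniteType φ] [QuasiCompact φ] (G : Set C)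
    (hG : ∀ c, ∃ g ∈ G, g ⤳ c) (y : Y)
    (H : ∀ (V : Scheme.{u}) (o : V ⟶ C), IsOpenImmersion o → ∀ u : V, o u ∈ G →
      ∀ (A : ValuationSubring (V.residueField u)), IsDiscreteValuationRing A →
      ∀ a : Spec (CommRingCat.of A) ⟶ Y, a (closedPoint A) = y →
        Spec.map (CommRingCat.ofHom A.subtype) ≫ a = (V.fromSpecResidueField u ≫ o) ≫ φ →
        ∃ l : Spec (CommRingCat.of A) ⟶ C, l ≫ φ = a ∧
          Spec.map (CommRingCat.ofHom A.subtype) ≫ l = V.fromSpecResidueField u ≫ o) :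
    ∃ U : Y.Opens, y ∈ U ∧ IsProper (φ ∣_ U) := by
  obtain ⟨W, hW, hyW, -⟩ := exists_isAffineOpen_mem_and_subset (U := (⊤ : Y.Opens)) (Set.mem_univ y)
  have : CompactSpace W.toScheme := isCompact_iff_compactSpace.mp hW.isCompact
  have : IsNoetherian W.toScheme := {}
  let CW : C.Opens := φ ⁻¹ᵁ W
  let g : CW.toScheme ⟶ W.toScheme := φ ∣_ W
  have hg : g ≫ W.ι = CW.ι ≫ φ := morphismRestrict_ι φ W
  have := LocallyOfFiniteType.isLocallyNoetherian g
  have := QuasiCompact.compactSpace_of_compactSpace g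
  have : IsNoetherian CW.toScheme := {}
  obtain ⟨N, X', π, j, hj, hjb, hπ, hπs, ⟨V, -, hD, hiso⟩, -, -⟩ :=
    Groth.Chow.exists_chow g TopologicalSpace.NoetherianSpace.finite_irreducibleComponents
  let tb := CohB1.ProjSpaceOver.toBase N W.toScheme
  have : IsProper tb := Groth.Variety2.isProper_projSpaceOver_toBase N _
  have := LocallyOfFiniteType.isLocallyNoetherian tb
  have := LocallyOfFiniteType.isLocallyNoetherian π
  have := QuasiCompact.compactSpace_of_compactSpace π
  have : IsNoetherian X' := {}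
  have : CompactSpace (π ⁻¹ᵁ V).toScheme :=
    isCompact_iff_compactSpace.mp (TopologicalSpace.NoetherianSpace.isCompact _)
  have : IsNoetherian (π ⁻¹ᵁ V).toScheme := {}
  let o : V.toScheme ⟶ C := V.ι ≫ CW.ι
  let m : V.toScheme ⟶ X' := inv (π ∣_ V) ≫ (π ⁻¹ᵁ V).ι
  have hm : m ≫ π = V.ι := by
    rw [Category.assoc, ← morphismRestrict_ι, IsIso.inv_hom_id_assoc]
  let F := closure (Set.range j) \ Set.range j
  have hF : IsClosed F := isClosed_closure_diff_range j
  have hy : ∀ p ∈ F, W.ι (tb p) ≠ y := by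
    rintro p ⟨hp, hpj⟩ hpy
    have hp' : p ∈ closure (Set.range ((π ⁻¹ᵁ V).ι ≫ j)) := by
      rw [Scheme.Hom.comp_base, TopCat.coe_comp, Set.range_comp, Scheme.Opens.range_ι]
      have hsub : Set.range j ⊆ closure (⇑j '' (π ⁻¹ᵁ V : X'.Opens)) := by
        rw [← Set.image_univ, ← hD.closure_eq]
        exact image_closure_subset_closure_image j.continuous
      exact closure_minimal hsub isClosed_closure hp
    obtain ⟨_, ⟨v, rfl⟩, hvp⟩ := Groth.Limits.exists_specializes_of_mem_closure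
      (Groth.Limits.pc_range _) hp'
    obtain ⟨u, huG, huv⟩ := hG (o ((π ∣_ V) v))
    obtain ⟨u₀, hu₀⟩ : ∃ u₀, o u₀ = u :=
      Set.mem_range.1 (huv.mem_open o.isOpenEmbedding.isOpen_range ⟨_, rfl⟩)
    have hu₀v : u₀ ⤳ (π ∣_ V) v := by
      rw [← o.isOpenEmbedding.toIsInducing.specializes_iff, hu₀]
      exact huv
    have hmv : m u₀ ⤳ (π ⁻¹ᵁ V).ι v := by
      have h2 := hu₀v.map m.continuous
      rwa [← Scheme.Hom.comp_apply (π ∣_ V) m, IsIso.hom_inv_id_assoc] at h2
    have hsp : (m ≫ j) u₀ ⤳ p := by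
      rw [Scheme.Hom.comp_apply]
      refine (hmv.map j.continuous).trans ?_
      rwa [← Scheme.Hom.comp_apply]
    obtain ⟨A, hA, hAdvr, hcl, hsq⟩ := Groth.Limits.exists_dvr_residueField (m ≫ j) u₀ p hsp
      (fun e ↦ hpj ⟨m u₀, (Scheme.Hom.comp_apply m j u₀).symm.trans e.symm⟩)
    let yA := hA ≫ tb ≫ W.ι
    have hyA : yA (closedPoint A) = y := by
      simp only [yA, Scheme.Hom.comp_apply, hcl, hpy]
    have hgen : Spec.map (CommRingCat.ofHom A.subtype) ≫ yA =
        (V.toScheme.fromSpecResidueField u₀ ≫ o) ≫ φ := by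
      simp only [yA, reassoc_of% hsq, Category.assoc, o]
      rw [reassoc_of% hjb, hg, reassoc_of% hm]
    obtain ⟨lX, hlf, hlsq⟩ := H _ o inferInstance u₀ (hu₀.symm ▸ huG) A hAdvr yA hyA hgen
    have hlW : Set.range lX ⊆ Set.range CW.ι := by
      rintro _ ⟨z, rfl⟩
      rw [Scheme.Opens.range_ι]
      change φ (lX z) ∈ W
      rw [← Scheme.Hom.comp_apply, hlf]
      exact ((hA ≫ tb) z).2
    let l := IsOpenImmersion.lift CW.ι lX hlW
    have hlg : l ≫ g = hA ≫ tb := by
      rw [← cancel_mono W.ι, Category.assoc, hg, IsOpenImmersion.lift_fac_assoc, hlf, Category.assoc]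
    have hlgen : Spec.map (CommRingCat.ofHom A.subtype) ≫ l =
        V.toScheme.fromSpecResidueField u₀ ≫ V.ι := by
      rw [← cancel_mono CW.ι, Category.assoc, IsOpenImmersion.lift_fac, hlsq, Category.assoc]
    obtain ⟨l', hl'₁, hl'₂⟩ : ∃ l' : Spec (CommRingCat.of A) ⟶ X',
        Spec.map (CommRingCat.ofHom A.subtype) ≫ l' = V.toScheme.fromSpecResidueField u₀ ≫ m ∧
          l' ≫ π = l := by
      have hex : ValuativeCriterion.Existence π :=
        (le_of_eq UniversallyClosed.eq_valuativeCriterion _ _ π inferInstance).1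
      obtain ⟨l', h1, h2⟩ := (hex
        { R := A, K := V.toScheme.residueField u₀,
          i₁ := V.toScheme.fromSpecResidueField u₀ ≫ m, i₂ := l,
          commSq := ⟨by rw [Category.assoc, hm]; exact hlgen.symm⟩ }).exists_lift
      exact ⟨l', h1, h2⟩
    have hfac : l' ≫ j = hA := by
      refine Groth.Limits.dvr_lift_unique tb A (V.toScheme.residueField u₀) _ _ ?_ ?_
      · rw [Category.assoc, hjb, reassoc_of% hl'₂, hlg]
      · change Spec.map (CommRingCat.ofHom A.subtype) ≫ l' ≫ j =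
          Spec.map (CommRingCat.ofHom A.subtype) ≫ hA
        rw [reassoc_of% hl'₁, hsq]
    exact hpj ⟨l' (closedPoint A), by rw [← Scheme.Hom.comp_apply, hfac, hcl]⟩
  let U₀ : W.toScheme.Opens := ⟨(tb '' F)ᶜ, (tb.isClosedMap _ hF).isOpen_compl⟩
  refine ⟨W.ι ''ᵁ U₀, ⟨⟨y, hyW⟩, ?_, rfl⟩, ?_⟩
  · rintro ⟨p, hp, hpy⟩
    exact hy p hp (congrArg W.ι hpy)
  refine (MorphismProperty.arrow_mk_iso_iff @IsProper (morphismRestrictRestrict φ W U₀)).1 ?_
  change IsProper (g ∣_ U₀)
  have hci : IsClosedImmersion (j ∣_ (tb ⁻¹ᵁ U₀)) := by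
    refine IsClosedImmersion.of_isPreimmersion _ ?_
    rw [(tb ⁻¹ᵁ U₀).ι.isOpenEmbedding.toIsInducing.isClosed_iff]
    refine ⟨closure (Set.range j), isClosed_closure, ?_⟩
    ext ⟨p, hp⟩
    constructor
    · intro hpc
      obtain ⟨z, hz⟩ : p ∈ Set.range j := by
        by_contra hpj
        exact hp ⟨p, ⟨hpc, hpj⟩, rfl⟩
      refine ⟨⟨z, show j z ∈ tb ⁻¹ᵁ U₀ from hz.symm ▸ hp⟩, Subtype.ext ?_⟩
      rw [morphismRestrict_base_coe]
      exact hz
    · rintro ⟨z, hz⟩
      rw [← hz]
      exact subset_closure ⟨z.1, (morphismRestrict_base_coe _ _ z).symm⟩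
  have hjtb : IsProper ((j ≫ tb) ∣_ U₀) := by
    rw [morphismRestrict_comp]
    have := IsZariskiLocalAtTarget.restrict (P := @IsProper) (f := tb) inferInstance U₀
    exact MorphismProperty.comp_mem @IsProper _ _ inferInstance this
  rw [hjb, morphismRestrict_comp] at hjtb
  have : Surjective (π ∣_ (g ⁻¹ᵁ U₀)) := IsZariskiLocalAtTarget.restrict hπs _
  have : UniversallyClosed (g ∣_ U₀) :=
    UniversallyClosed.of_comp_surjective (π ∣_ (g ⁻¹ᵁ U₀)) (g ∣_ U₀)
  exact {}

end Groth.Valuative
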