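import Groth.Agent.Valuative.Dominate

/-!
# Lifts attached to dominated local rings
-/

set_option backward.isDefEq.respectTransparency false

universe u

open CategoryTheory Limits AlgebraicGeometry IsLocalRing

namespace Groth.Valuative

variable {X Y : Scheme.{u}} (f : X ⟶ Y)

theorem residue_genericPoint_bijective (X : Scheme.{u}) [IsIntegral X] :
    Function.Bijective (X.residue (genericPoint X)).hom :=
  ⟨RingHom.injective (R := X.functionField) (X.residue (genericPoint X)).hom,
    X.residue_surjective (genericPoint X)⟩

theorem eq_genericPoint_of_component {X : Scheme.{u}} [IrreducibleSpace X] (η : X)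
    (hη : closure {η} ∈ irreducibleComponents (X : Type u)) : η = genericPoint X := by
  rw [irreducibleComponents_eq_singleton, Set.mem_singleton_iff] at hη
  exact IsGenericPoint.eq (isGenericPoint_def.2 hη) (genericPoint_spec X)

/-- A morphism from a local ring extending a point of `Spec K` gives a specialization. -/
theorem specializes_of_square {η : X} (A : ValuationSubring (X.residueField η))
    (y : Spec (CommRingCat.of A) ⟶ Y)
    (hy : Spec.map (CommRingCat.ofHom A.subtype) ≫ y = X.fromSpecResidueField η ≫ f) :
    f η ⤳ y (closedPoint A) := by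
  have h1 := congrArg (fun m : Spec (X.residueField η) ⟶ Y ↦
    m (closedPoint (X.residueField η))) hy
  simp only [Scheme.Hom.comp_apply, Scheme.fromSpecResidueField_apply] at h1
  rw [← h1]
  exact (specializes_closedPoint _).map y.continuous

theorem stalkClosedPointTo_subtype {η : X} (A : ValuationSubring (X.residueField η))
    (y : Spec (CommRingCat.of A) ⟶ Y)
    (hy : Spec.map (CommRingCat.ofHom A.subtype) ≫ y = X.fromSpecResidueField η ≫ f) :
    Scheme.stalkClosedPointTo y ≫ CommRingCat.ofHom A.subtype =
      Groth.Limits.toResidue f η (specializes_of_square f A y hy) := by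
  apply Spec.map_injective
  rw [← cancel_mono (Y.fromSpecStalk (y (closedPoint A))), Groth.Limits.toResidue_fromSpecStalk,
    Spec.map_comp, Category.assoc]
  rw [show Spec.map (Scheme.stalkClosedPointTo y) ≫ Y.fromSpecStalk (y (closedPoint A)) = y from
    Scheme.Spec_stalkClosedPointTo_fromSpecStalk y]
  exact hy

/-- A dominated local ring gives a lift. -/
theorem exists_lift_of_dominated [IsIntegral X] [IsSeparated (terminal.from Y)]
    (A : ValuationSubring (X.residueField (genericPoint X))) [IsDiscreteValuationRing A]
    (y : Spec (CommRingCat.of A) ⟶ Y)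
    (hy : Spec.map (CommRingCat.ofHom A.subtype) ≫ y =
      X.fromSpecResidueField (genericPoint X) ≫ f) (x : X)
    (h1 : ∀ a : X.presheaf.stalk x, (X.residue (genericPoint X)).hom
      (X.presheaf.stalkSpecializes (genericPoint_specializes x) a) ∈ A) :
    ∃ l : Spec (CommRingCat.of A) ⟶ X, l ≫ f = y ∧
      Spec.map (CommRingCat.ofHom A.subtype) ≫ l = X.fromSpecResidueField (genericPoint X) := by
  let ρ : X.presheaf.stalk x ⟶ CommRingCat.of A := CommRingCat.ofHom
    (((X.residue (genericPoint X)).hom.comp
      (X.presheaf.stalkSpecializes (genericPoint_specializes x)).hom).codRestrict A.toSubring h1)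
  have hl : Spec.map (CommRingCat.ofHom A.subtype) ≫ Spec.map ρ ≫ X.fromSpecStalk x =
      X.fromSpecResidueField (genericPoint X) := by
    rw [← Spec.map_comp_assoc]
    rw [show ρ ≫ CommRingCat.ofHom A.subtype =
      X.presheaf.stalkSpecializes (genericPoint_specializes x) ≫ X.residue (genericPoint X) from
      rfl, Spec.map_comp, Category.assoc, Scheme.SpecMap_stalkSpecializes_fromSpecStalk]
    rfl
  refine ⟨Spec.map ρ ≫ X.fromSpecStalk x, ?_, hl⟩
  refine Groth.Limits.dvr_lift_unique (terminal.from Y) A (X.residueField (genericPoint X)) _ _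
    (terminal.hom_ext _ _) ?_
  change Spec.map (CommRingCat.ofHom A.subtype) ≫ _ = Spec.map (CommRingCat.ofHom A.subtype) ≫ y
  rw [hy]
  simp only [Category.assoc]
  rw [reassoc_of% hl]

end Groth.Valuative
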