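import Groth.Agent.Valuative.NhdDvr
import Mathlib.AlgebraicGeometry.FunctionField

/-!
# Properness over a neighbourhood from domination by discrete valuation rings
-/

set_option backward.isDefEq.respectTransparency false

universe u

open CategoryTheory Limits AlgebraicGeometry IsLocalRing

namespace Groth.Valuative

variable {X Y : Scheme.{u}}

theorem isClosed_closure_diff_range {P : Scheme.{u}} (j : X ⟶ P) [IsImmersion j] :
    IsClosed (closure (Set.range j) \ Set.range j) := by
  have h := isLocallyClosed_iff_isOpen_coborder.1 (IsImmersion.isLocallyClosed_range (f := j))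
  rw [coborder] at h
  exact isOpen_compl_iff.1 h

/-- The hypothesis on discrete valuation rings gives lifts through `y`. -/
theorem exists_lift_through [IsIntegral X] (f : X ⟶ Y) (y : Y) (hξ : f (genericPoint X) ⤳ y)
    (H : ∀ A : ValuationSubring X.functionField, IsDiscreteValuationRing A →
      (∀ r : Y.presheaf.stalk y,
        A.valuation ((Y.presheaf.stalkSpecializes hξ ≫ f.stalkMap (genericPoint X)) r) ≤ 1) →
      (∀ r ∈ maximalIdeal (Y.presheaf.stalk y),
        A.valuation ((Y.presheaf.stalkSpecializes hξ ≫ f.stalkMap (genericPoint X)) r) < 1) →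
      ∃ x : X, f x = y ∧
        (∀ r : X.presheaf.stalk x,
          A.valuation (X.presheaf.stalkSpecializes (genericPoint_specializes x) r) ≤ 1) ∧
        (∀ r ∈ maximalIdeal (X.presheaf.stalk x),
          A.valuation (X.presheaf.stalkSpecializes (genericPoint_specializes x) r) < 1))
    {K : Type u} [Field K] (A : ValuationSubring K) [IsDiscreteValuationRing A]
    (φ : X.functionField ⟶ CommRingCat.of K) (hφ : Function.Bijective φ.hom)
    (a : Spec (CommRingCat.of A) ⟶ Y) (hcl : a (closedPoint A) = y)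
    (hsq : Spec.map (CommRingCat.ofHom A.subtype) ≫ a =
      (Spec.map φ ≫ X.fromSpecStalk (genericPoint X)) ≫ f) :
    ∃ lX : Spec (CommRingCat.of A) ⟶ X, lX ≫ f = a ∧
      Spec.map (CommRingCat.ofHom A.subtype) ≫ lX =
        Spec.map φ ≫ X.fromSpecStalk (genericPoint X) := by
  obtain ⟨hd₁, hd₂⟩ := dominate_of_square A a hcl
    ((Y.presheaf.stalkSpecializes hξ ≫ f.stalkMap (genericPoint X)) ≫ φ) (by
      rw [hsq, Category.assoc, ← spec_stalkMap_genericPoint f hξ, ← Spec.map_comp_assoc])
  let R : ValuationSubring X.functionField := A.comap φ.hom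
  obtain ⟨x, hxy, hx₁, hx₂⟩ := H R (isDVR_comap A φ.hom hφ)
    (fun r ↦ (R.valuation_le_one_iff _).2 ((A.valuation_le_one_iff _).1 (hd₁ r) :))
    (fun r hr ↦ (valuation_comap_lt_one A φ.hom _).2 (hd₂ r hr))
  obtain ⟨lX, hlcl, hlsq⟩ := exists_square_of_dominate A
    (X.presheaf.stalkSpecializes (genericPoint_specializes x) ≫ φ)
    (fun r ↦ (A.valuation_le_one_iff _).2
      (ValuationSubring.mem_comap.1 ((R.valuation_le_one_iff _).1 (hx₁ r))))
    (fun r hr ↦ (valuation_comap_lt_one A φ.hom _).1 (hx₂ r hr))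
  have hlsq' : Spec.map (CommRingCat.ofHom A.subtype) ≫ lX =
      Spec.map φ ≫ X.fromSpecStalk (genericPoint X) := by
    rw [hlsq, Spec.map_comp, Category.assoc, Scheme.SpecMap_stalkSpecializes_fromSpecStalk]
  exact ⟨lX, hom_eq_of_closedPoint A _ _ (by rw [Scheme.Hom.comp_apply, hlcl, hxy]) hcl
    (by rw [reassoc_of% hlsq', hsq, Category.assoc]), hlsq'⟩

theorem exists_proper_nhd [IsIntegral X] [IsLocallyNoetherian Y] (f : X ⟶ Y) [IsSeparated f]
    [LocallyOfFiniteType f] [QuasiCompact f] (y : Y) (hξ : f (genericPoint X) ⤳ y)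
    (H : ∀ A : ValuationSubring X.functionField, IsDiscreteValuationRing A →
      (∀ r : Y.presheaf.stalk y,
        A.valuation ((Y.presheaf.stalkSpecializes hξ ≫ f.stalkMap (genericPoint X)) r) ≤ 1) →
      (∀ r ∈ maximalIdeal (Y.presheaf.stalk y),
        A.valuation ((Y.presheaf.stalkSpecializes hξ ≫ f.stalkMap (genericPoint X)) r) < 1) →
      ∃ x : X, f x = y ∧
        (∀ r : X.presheaf.stalk x,
          A.valuation (X.presheaf.stalkSpecializes (genericPoint_specializes x) r) ≤ 1) ∧
        (∀ r ∈ maximalIdeal (X.presheaf.stalk x),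
          A.valuation (X.presheaf.stalkSpecializes (genericPoint_specializes x) r) < 1)) :
    ∃ U : Y.Opens, y ∈ U ∧ IsProper (f ∣_ U) := by
  obtain ⟨W, hW, hyW, -⟩ := exists_isAffineOpen_mem_and_subset (U := (⊤ : Y.Opens)) (Set.mem_univ y)
  have : CompactSpace W.toScheme := isCompact_iff_compactSpace.mp hW.isCompact
  have : IsNoetherian W.toScheme := {}
  let XW : X.Opens := f ⁻¹ᵁ W
  have hηW : genericPoint X ∈ XW := hξ.mem_open W.isOpen hyW
  have : Nonempty XW.toScheme := ⟨⟨_, hηW⟩⟩
  have : IsIntegral XW.toScheme := isIntegral_of_isOpenImmersion XW.ι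
  let g : XW.toScheme ⟶ W.toScheme := f ∣_ W
  have hg : g ≫ W.ι = XW.ι ≫ f := morphismRestrict_ι f W
  have := LocallyOfFiniteType.isLocallyNoetherian g
  have := QuasiCompact.compactSpace_of_compactSpace g
  have : IsNoetherian XW.toScheme := {}
  obtain ⟨N, X', π, j, hj, hjb, hπ, hπs, ⟨V, hVd, hD, hiso⟩, -, hirr⟩ :=
    Groth.Chow.exists_chow g TopologicalSpace.NoetherianSpace.finite_irreducibleComponents
  have : IrreducibleSpace X' := hirr inferInstance
  let tb := CohB1.ProjSpaceOver.toBase N W.toScheme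
  have : IsProper tb := Groth.Variety2.isProper_projSpaceOver_toBase N _
  have := LocallyOfFiniteType.isLocallyNoetherian tb
  -- the generic point, seen in `V`
  obtain ⟨v, hv⟩ := hVd.nonempty
  have hηV : (⟨genericPoint X, hηW⟩ : XW.toScheme) ∈ V := by
    refine Specializes.mem_open ?_ V.isOpen hv
    rw [← XW.ι.isOpenEmbedding.toIsInducing.specializes_iff]
    exact genericPoint_specializes _
  let u₀ : V.toScheme := ⟨⟨genericPoint X, hηW⟩, hηV⟩
  let o : V.toScheme ⟶ X := V.ι ≫ XW.ι
  have ho : o u₀ = genericPoint X := rfl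
  let m : V.toScheme ⟶ X' := inv (π ∣_ V) ≫ (π ⁻¹ᵁ V).ι
  have hm : m ≫ π = V.ι := by
    rw [Category.assoc, ← morphismRestrict_ι, IsIso.inv_hom_id_assoc]
  have hmgen : ∀ z : X', m u₀ ⤳ z := by
    intro z
    suffices hgz : m u₀ ⤳ genericPoint X' from hgz.trans (genericPoint_specializes z)
    have hgV : genericPoint X' ∈ π ⁻¹ᵁ V := by
      obtain ⟨z', hz'⟩ := hD.nonempty
      exact (genericPoint_specializes z').mem_open (π ⁻¹ᵁ V).isOpen hz'
    let w : (π ⁻¹ᵁ V).toScheme := ⟨_, hgV⟩
    have h1 : u₀ ⤳ (π ∣_ V) w := by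
      rw [← o.isOpenEmbedding.toIsInducing.specializes_iff]
      exact ho.symm ▸ genericPoint_specializes _
    have h2 := h1.map m.continuous
    rw [← Scheme.Hom.comp_apply (π ∣_ V) m, IsIso.hom_inv_id_assoc] at h2
    exact h2
  let φ : X.functionField ⟶ V.toScheme.residueField u₀ :=
    Groth.Limits.toResidue o u₀ (show o u₀ ⤳ genericPoint X from specializes_of_eq ho)
  have hφ : Function.Bijective φ.hom := by
    refine ⟨RingHom.injective (R := X.functionField) φ.hom, ?_⟩
    have h1 := isIso_stalkSpecializes_of_eq (show o u₀ ⤳ genericPoint X from specializes_of_eq ho) ho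
    exact (V.toScheme.residue_surjective u₀).comp
      ((ConcreteCategory.bijective_of_isIso (o.stalkMap u₀)).2.comp
        (ConcreteCategory.bijective_of_isIso
          (X.presheaf.stalkSpecializes (show o u₀ ⤳ genericPoint X from specializes_of_eq ho))).2)
  -- the points of the boundary do not lie over `y`
  let F := closure (Set.range j) \ Set.range j
  have hF : IsClosed F := isClosed_closure_diff_range j
  have hy : ∀ p ∈ F, W.ι (tb p) ≠ y := by
    rintro p ⟨hp, hpj⟩ hpy
    have hsp : (m ≫ j) u₀ ⤳ p := by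
      rw [Scheme.Hom.comp_apply]
      refine specializes_iff_mem_closure.2 (closure_minimal ?_ isClosed_closure hp)
      rintro _ ⟨z, rfl⟩
      exact specializes_iff_mem_closure.1 ((hmgen z).map j.continuous)
    obtain ⟨A, hA, hAdvr, hcl, hsq⟩ := Groth.Limits.exists_dvr_residueField (m ≫ j) u₀ p hsp
      (fun e ↦ hpj ⟨m u₀, (Scheme.Hom.comp_apply m j u₀).symm.trans e.symm⟩)
    let yA := hA ≫ tb ≫ W.ι
    have hyA : yA (closedPoint A) = y := by
      simp only [yA, Scheme.Hom.comp_apply, hcl, hpy]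
    have hφs : Spec.map φ ≫ X.fromSpecStalk (genericPoint X) =
        V.toScheme.fromSpecResidueField u₀ ≫ o := Groth.Limits.toResidue_fromSpecStalk _ _ _
    have hgen : Spec.map (CommRingCat.ofHom A.subtype) ≫ yA =
        (Spec.map φ ≫ X.fromSpecStalk (genericPoint X)) ≫ f := by
      rw [hφs]
      simp only [yA, reassoc_of% hsq, Category.assoc, o]
      rw [reassoc_of% hjb, hg, reassoc_of% hm]
    obtain ⟨lX, hlf, hlsq⟩ := exists_lift_through f y hξ H A φ hφ yA hyA hgen
    have hlsq' : Spec.map (CommRingCat.ofHom A.subtype) ≫ lX =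
        V.toScheme.fromSpecResidueField u₀ ≫ o := hlsq.trans hφs
    have hlW : Set.range lX ⊆ Set.range XW.ι := by
      rintro _ ⟨z, rfl⟩
      rw [Scheme.Opens.range_ι]
      change f (lX z) ∈ W
      rw [← Scheme.Hom.comp_apply, hlf]
      exact ((hA ≫ tb) z).2
    let l := IsOpenImmersion.lift XW.ι lX hlW
    have hlg : l ≫ g = hA ≫ tb := by
      rw [← cancel_mono W.ι, Category.assoc, hg, IsOpenImmersion.lift_fac_assoc, hlf, Category.assoc]
    have hlgen : Spec.map (CommRingCat.ofHom A.subtype) ≫ l =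
        V.toScheme.fromSpecResidueField u₀ ≫ V.ι := by
      rw [← cancel_mono XW.ι, Category.assoc, IsOpenImmersion.lift_fac, hlsq', Category.assoc]
    obtain ⟨l', hl'₁, hl'₂⟩ : ∃ l' : Spec (CommRingCat.of A) ⟶ X',
        Spec.map (CommRingCat.ofHom A.subtype) ≫ l' = V.toScheme.fromSpecResidueField u₀ ≫ m ∧
          l' ≫ π = l := by
      have hex : ValuativeCriterion.Existence π :=
        (le_of_eq UniversallyClosed.eq_valuativeCriterion _ _ π inferInstance).1
      obtain ⟨l', h1, h2⟩ := (hex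
        { R := A, K := V.toScheme.residueField u₀,
          i₁ := V.toScheme.fromSpecResidueField u₀ ≫ m, i₂ := l,
          commSq := ⟨by rw [Category.assoc, hm]; exact hlgen.symm⟩ }).exists_lift
      exact ⟨l', h1, h2⟩
    have hfac : l' ≫ j = hA := by
      refine Groth.Limits.dvr_lift_unique tb A (V.toScheme.residueField u₀) _ _ ?_ ?_
      · rw [Category.assoc, hjb, reassoc_of% hl'₂, hlg]
      · change Spec.map (CommRingCat.ofHom A.subtype) ≫ l' ≫ j =
          Spec.map (CommRingCat.ofHom A.subtype) ≫ hA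
        rw [reassoc_of% hl'₁, hsq]
    exact hpj ⟨l' (closedPoint A), by rw [← Scheme.Hom.comp_apply, hfac, hcl]⟩
  -- properness outside the image of the boundary
  let U₀ : W.toScheme.Opens := ⟨(tb '' F)ᶜ, (tb.isClosedMap _ hF).isOpen_compl⟩
  refine ⟨W.ι ''ᵁ U₀, ⟨⟨y, hyW⟩, ?_, rfl⟩, ?_⟩
  · rintro ⟨p, hp, hpy⟩
    exact hy p hp (congrArg W.ι hpy)
  refine (MorphismProperty.arrow_mk_iso_iff @IsProper (morphismRestrictRestrict f W U₀)).1 ?_
  change IsProper (g ∣_ U₀)
  have hci : IsClosedImmersion (j ∣_ (tb ⁻¹ᵁ U₀)) := by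
    refine IsClosedImmersion.of_isPreimmersion _ ?_
    have hinj := (tb ⁻¹ᵁ U₀).ι.isOpenEmbedding.toIsInducing
    rw [hinj.isClosed_iff]
    refine ⟨closure (Set.range j), isClosed_closure, ?_⟩
    ext ⟨p, hp⟩
    constructor
    · intro hpc
      obtain ⟨z, hz⟩ : p ∈ Set.range j := by
        by_contra hpj
        exact hp ⟨p, ⟨hpc, hpj⟩, rfl⟩
      refine ⟨⟨z, show j z ∈ tb ⁻¹ᵁ U₀ from hz.symm ▸ hp⟩, Subtype.ext ?_⟩
      rw [morphismRestrict_base_coe]
      exact hz
    · rintro ⟨z, hz⟩
      rw [← hz]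
      exact subset_closure ⟨z.1, (morphismRestrict_base_coe _ _ z).symm⟩
  have hjtb : IsProper ((j ≫ tb) ∣_ U₀) := by
    rw [morphismRestrict_comp]
    have := IsZariskiLocalAtTarget.restrict (P := @IsProper) (f := tb) inferInstance U₀
    exact MorphismProperty.comp_mem @IsProper _ _ inferInstance this
  rw [hjb, morphismRestrict_comp] at hjtb
  have : Surjective (π ∣_ (g ⁻¹ᵁ U₀)) := IsZariskiLocalAtTarget.restrict hπs _
  have : UniversallyClosed (g ∣_ U₀) :=
    UniversallyClosed.of_comp_surjective (π ∣_ (g ⁻¹ᵁ U₀)) (g ∣_ U₀)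
  exact {}

end Groth.Valuative
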