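import Groth.Agent.Valuative.Curve
import Groth.Agent.ZetaAn.UnivClosedTest
import Mathlib.AlgebraicGeometry.ValuativeCriterion
import Mathlib.RingTheory.DiscreteValuationRing.TFAE

/-!
# Valuative criteria by curves over Nagata base schemes
-/

universe u

open CategoryTheory CategoryTheory.Limits AlgebraicGeometry TopologicalSpace

namespace Groth.Valuative

variable {C : Scheme.{u}} [IsIntegral C]

/-- `Spec` of the fraction field of a stalk. -/
noncomputable abbrev genMap (c : C) :
    Spec (CommRingCat.of (FractionRing (C.presheaf.stalk c))) ⟶ Spec (C.presheaf.stalk c) :=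
  Spec.map (CommRingCat.ofHom (algebraMap (C.presheaf.stalk c) (FractionRing (C.presheaf.stalk c))))

theorem isDominant_genMap (c : C) : IsDominant (genMap c) := by
  refine ⟨?_⟩
  refine (PrimeSpectrum.denseRange_comap_iff_ker_le_nilRadical (algebraMap (C.presheaf.stalk c) (FractionRing (C.presheaf.stalk c)))).2 ?_
  change RingHom.ker (algebraMap (C.presheaf.stalk c) (FractionRing (C.presheaf.stalk c))) ≤ _
  rw [(RingHom.injective_iff_ker_eq_bot _).1 (IsFractionRing.injective _ _)]
  exact bot_le

theorem exists_generic (c : C) (hdim : ringKrullDim (C.presheaf.stalk c) = 1) (U : C.Opens)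
    (hU : (U : Set C) = {c}ᶜ) :
    ∃ k : Spec (CommRingCat.of (FractionRing (C.presheaf.stalk c))) ⟶ (U : Scheme.{u}),
      k ≫ U.ι = genMap c ≫ C.fromSpecStalk c := by
  refine ⟨IsOpenImmersion.lift U.ι (genMap c ≫ C.fromSpecStalk c) ?_, IsOpenImmersion.lift_fac _ _ _⟩
  rintro _ ⟨t, rfl⟩
  rw [Scheme.Opens.range_ι, hU]
  intro hc
  rw [Set.mem_singleton_iff, Scheme.Hom.comp_apply] at hc
  have h1 := (C.fromSpecStalk c).isEmbedding.injective
    (hc.trans Scheme.fromSpecStalk_closedPoint.symm)
  have h2 : (genMap c t).asIdeal = ⊥ := by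
    change t.asIdeal.comap (algebraMap (C.presheaf.stalk c) (FractionRing (C.presheaf.stalk c))) = ⊥
    rw [(Ideal.eq_bot_or_top t.asIdeal).resolve_right t.2.ne_top, ← RingHom.ker_eq_comap_bot,
      (RingHom.injective_iff_ker_eq_bot _).1 (IsFractionRing.injective _ _)]
  rw [h1] at h2
  have h3 : IsField (C.presheaf.stalk c) := IsLocalRing.isField_iff_maximalIdeal_eq.2 h2
  rw [ringKrullDim_eq_zero_of_isField h3] at hdim
  exact zero_ne_one hdim

theorem specializes_genMap (c : C) {Z : Scheme.{u}} (l : Spec (C.presheaf.stalk c) ⟶ Z)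
    (t : Spec (CommRingCat.of (FractionRing (C.presheaf.stalk c)))) :
    (genMap c ≫ l) t ⤳ l (IsLocalRing.closedPoint (C.presheaf.stalk c)) := by
  rw [Scheme.Hom.comp_apply]
  exact (IsLocalRing.specializes_closedPoint _).map l.continuous

/-- The stalk at a normal point of dimension one of a locally Noetherian scheme is a valuation ring. -/
theorem valuationRing_stalk [IsLocallyNoetherian C] (c : C)
    (hnorm : IsIntegrallyClosed (C.presheaf.stalk c))
    (hdim : ringKrullDim (C.presheaf.stalk c) = 1) : ValuationRing (C.presheaf.stalk c) := by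
  have : Ring.KrullDimLE 1 (C.presheaf.stalk c) := Ring.krullDimLE_iff.2 hdim.le
  refine ((tfae_of_isNoetherianRing_of_isLocalRing_of_isDomain (C.presheaf.stalk c)).out 3 1).1 ?_
  refine ⟨hnorm, fun P hP0 hP ↦ ?_⟩
  exact IsLocalRing.eq_maximalIdeal (Ring.krullDimLE_one_iff_of_isPrime_bot.1 this P hP0 hP)

end Groth.Valuative
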