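import Groth.Agent.RefRank.ClosedPoints
import Groth.Agent.ZetaAn.Constructible
import Groth.Agent.Calg4.Japanese
import Groth.Agent.Calg1.NagataTheorem
import Mathlib.AlgebraicGeometry.SpreadingOut
import Mathlib.AlgebraicGeometry.Morphisms.FinitePresentation

/-!
# Curves through points outside a quasi-compact image, over Nagata base schemes
-/

universe u

open CategoryTheory CategoryTheory.Limits AlgebraicGeometry TopologicalSpace Topology

namespace Groth.Valuative

/-- If all nonzero primes below `M` contain a given nonzero element, there is nothing strictly in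
between `0` and `M`. -/
theorem eq_of_mem_all_primes_le {A : Type*} [CommRing A] [IsDomain A] [IsNoetherianRing A] {g : A}
    (hg : g ≠ 0) {M : Ideal A} [M.IsPrime]
    (h : ∀ q : Ideal A, q.IsPrime → q ≠ ⊥ → q ≤ M → g ∈ q) {q : Ideal A} [hq : q.IsPrime]
    (hq0 : q ≠ ⊥) (hqM : q ≤ M) : q = M := by
  let B := Localization.AtPrime M
  have hinj : Function.Injective (algebraMap A B) :=
    IsLocalization.injective B M.primeCompl_le_nonZeroDivisors
  have hdis : Disjoint (M.primeCompl : Set A) q := Set.disjoint_left.2 fun a ha haq ↦ ha (hqM haq)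
  have hcomap : (q.map (algebraMap A B)).comap (algebraMap A B) = q :=
    IsLocalization.comap_map_of_isPrime_disjoint M.primeCompl B hq hdis
  have := IsLocalization.isPrime_of_isPrime_disjoint M.primeCompl B q hq hdis
  have hmax : (q.map (algebraMap A B)).IsMaximal := by
    refine RefRank.isMaximal_of_mem_all_primes ((map_ne_zero_iff _ hinj).2 hg) (fun p hp hp0 ↦ ?_) ?_
    · obtain ⟨hpp, hpd⟩ := (IsLocalization.isPrime_iff_isPrime_disjoint M.primeCompl B p).1 hp
      refine Ideal.mem_comap.1 (h _ hpp (fun e ↦ hp0 ?_) fun a ha ↦ ?_)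
      · rw [← IsLocalization.map_under M.primeCompl B p]
        exact (congrArg _ e).trans Ideal.map_bot
      · by_contra hn
        exact Set.disjoint_left.1 hpd hn ha
    · rw [Ne, Ideal.map_eq_bot_iff_of_injective hinj]
      exact hq0
  rw [← hcomap, IsLocalRing.eq_maximalIdeal hmax]
  exact Localization.AtPrime.under_maximalIdeal

theorem isLocallyNoetherian_of_nagata {S : Scheme.{u}}
    (hS : ∀ W : S.affineOpens, CAlg.IsNagata Γ(S, W)) : IsLocallyNoetherian S :=
  ⟨fun U ↦ (hS U).1⟩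

/-- A point which is outside of a quasi-compact image, but in its closure, and locally closed. -/
theorem exists_isLocallyClosed_not_mem_range {X Y : Scheme.{u}} [IsLocallyNoetherian Y] (h : X ⟶ Y)
    [LocallyOfFiniteType h] [QuasiCompact h] (hne : ¬ IsClosed (Set.range h)) :
    ∃ z ∈ closure (Set.range h), z ∉ Set.range h ∧ IsLocallyClosed ({z} : Set Y) := by
  obtain ⟨z₀, hz₀, hz₀'⟩ := Set.not_subset.1 fun hsub ↦ hne (closure_subset_iff_isClosed.1 hsub)
  obtain ⟨V, hV, hz₀V, -⟩ := exists_isAffineOpen_mem_and_subset (x := z₀)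
    (U := (⊤ : Y.Opens)) trivial
  have : IsNoetherianRing Γ(Y, V) := IsLocallyNoetherian.component_noetherian ⟨V, hV⟩
  have hE : IsLocallyConstructible (Set.range h) := by
    simpa using h.isLocallyConstructible_image IsLocallyConstructible.univ
  have hem := hV.fromSpec.isOpenEmbedding
  have hT : IsConstructible (hV.fromSpec ⁻¹' Set.range h) :=
    (hE.preimage_of_isOpenEmbedding hem).isConstructible
  have hcl : IsConstructible (closure (hV.fromSpec ⁻¹' Set.range h)) :=
    isConstructible_compl.1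
      ((NoetherianSpace.isCompact _).isConstructible isClosed_closure.isOpen_compl)
  obtain ⟨z, ⟨hz, hz'⟩, hlc⟩ := RefRank.exists_isLocallyClosed_singleton
    (hcl.sdiff hT).isLocallyConstructible (by
      obtain ⟨z₁, rfl⟩ : z₀ ∈ Set.range hV.fromSpec := hV.range_fromSpec.ge hz₀V
      rw [← Set.mem_preimage,
        hem.isOpenMap.preimage_closure_eq_closure_preimage hem.continuous] at hz₀
      exact ⟨z₁, hz₀, hz₀'⟩)
  refine ⟨hV.fromSpec z, ?_, hz', ?_⟩
  · rw [← Set.mem_preimage, hem.isOpenMap.preimage_closure_eq_closure_preimage hem.continuous]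
    exact hz
  · have := hlc.image hem.isInducing hem.isOpen_range.isLocallyClosed
    rwa [Set.image_singleton] at this

/-- The field of a closed point of a nonempty fibre over `Spec κ`. -/
theorem exists_finite_point {κ : Type u} [Field κ] {F : Scheme.{u}}
    (s : F ⟶ Spec (CommRingCat.of κ)) [LocallyOfFiniteType s] [Nonempty F] :
    ∃ (L : Type u) (_ : Field L) (ψ : κ →+* L) (w : Spec (CommRingCat.of L) ⟶ F),
      ψ.Finite ∧ w ≫ s = Spec.map (CommRingCat.ofHom ψ) := by
  have : JacobsonSpace F := LocallyOfFiniteType.jacobsonSpace s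
  obtain ⟨x, -, hx⟩ := nonempty_inter_closedPoints (X := F) (Z := Set.univ) Set.univ_nonempty
    isOpen_univ.isLocallyClosed
  have hx' : IsClosed ({x} : Set F) := hx
  have := isClosed_singleton_iff_locallyOfFiniteType.1 hx'
  let w : Spec (CommRingCat.of (F.residueField x)) ⟶ F := F.fromSpecResidueField x
  obtain ⟨ψ, hψ⟩ := Spec.map_surjective (w ≫ s)
  have : LocallyOfFiniteType w := this
  have hfin : IsFinite (w ≫ s) := isFinite_iff_locallyOfFiniteType_of_jacobsonSpace.2 inferInstance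
  rw [← hψ, IsFinite.SpecMap_iff] at hfin
  exact ⟨F.residueField x, inferInstance, ψ.hom, w, hfin, hψ.symm⟩

/-- Curves witnessing that a quasi-compact image is not closed. -/
theorem exists_curve_of_not_isClosed_range {S X Y : Scheme.{u}}
    (hS : ∀ W : S.affineOpens, CAlg.IsNagata Γ(S, W)) (h : X ⟶ Y) (q : Y ⟶ S)
    [LocallyOfFiniteType h] [QuasiCompact h] [LocallyOfFiniteType q]
    (hne : ¬ IsClosed (Set.range h)) :
    ∃ (C : Scheme.{u}) (r : C ⟶ S), IsIntegral C ∧ LocallyOfFiniteType r ∧ QuasiCompact r ∧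
      (∀ x : C, IsIntegrallyClosed (C.presheaf.stalk x)) ∧
      ∃ c : C, IsClosed ({c} : Set C) ∧ ringKrullDim (C.presheaf.stalk c) = 1 ∧
        ∃ (U : C.Opens) (u : (U : Scheme.{u}) ⟶ X) (g : C ⟶ Y),
          (U : Set C) = {c}ᶜ ∧ g ≫ q = r ∧ u ≫ h = U.ι ≫ g ∧ g c ∉ Set.range h := by
  classical
  have hSn := isLocallyNoetherian_of_nagata hS
  have hYn := LocallyOfFiniteType.isLocallyNoetherian q
  obtain ⟨z, hz, hzr, hlc⟩ := exists_isLocallyClosed_not_mem_range h hne
  -- an affine neighbourhood in which `z` is closed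
  obtain ⟨W, hW, hzW, -⟩ := exists_isAffineOpen_mem_and_subset (x := q z)
    (U := (⊤ : S.Opens)) trivial
  let O : Y.Opens := ⟨coborder {z}, hlc.isOpen_coborder⟩
  obtain ⟨V, hV, hzV, hVO⟩ := exists_isAffineOpen_mem_and_subset (x := z)
    (U := O ⊓ q ⁻¹ᵁ W) ⟨subset_coborder rfl, hzW⟩
  have hNag : CAlg.IsNagata Γ(Y, V) := by
    letI := (q.appLE W V (hVO.trans inf_le_right)).hom.toAlgebra
    haveI : Algebra.FiniteType Γ(S, W) Γ(Y, V) :=
      q.finiteType_appLE hW hV (hVO.trans inf_le_right)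
    exact Calg1.isNagata_of_finiteType (hS ⟨W, hW⟩)
  have := hNag.1
  have hem := hV.fromSpec.isOpenEmbedding
  obtain ⟨z', hz'⟩ : z ∈ Set.range hV.fromSpec := hV.range_fromSpec.ge hzV
  have hz'cl : IsClosed ({z'} : Set (Spec Γ(Y, V))) := by
    have : hV.fromSpec ⁻¹' closure {z} = {z'} := by
      refine Set.eq_singleton_iff_unique_mem.2 ⟨hz' ▸ subset_closure rfl, fun p hp ↦ ?_⟩
      refine hem.injective (Eq.trans ?_ hz'.symm)
      have h1 : hV.fromSpec p ∈ closure {z} ∩ coborder {z} :=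
        ⟨hp, (hVO (hV.range_fromSpec.le ⟨p, rfl⟩)).1⟩
      rwa [closure_inter_coborder, Set.mem_singleton_iff] at h1
    rw [← this]
    exact isClosed_closure.preimage hem.continuous
  have hm : z'.asIdeal.IsMaximal := (PrimeSpectrum.isClosed_singleton_iff_isMaximal z').1 hz'cl
  set T := hV.fromSpec ⁻¹' Set.range h with hTdef
  have hT : IsConstructible T := by
    have hE : IsLocallyConstructible (Set.range h) := by
      simpa using h.isLocallyConstructible_image IsLocallyConstructible.univ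
    exact (hE.preimage_of_isOpenEmbedding hem).isConstructible
  have hz'T : z' ∉ T := fun hh ↦ hzr (hz' ▸ hh)
  obtain ⟨η, hη, hηz⟩ := ZetaAn.exists_specializes_of_mem_closure hT (p := z') (by
    rw [hTdef, ← hem.isOpenMap.preimage_closure_eq_closure_preimage hem.continuous,
      Set.mem_preimage, hz']
    exact hz)
  obtain ⟨U₁, hU₁, hηU₁, hU₁T⟩ := (ZetaAn.isConstructible_near hT η).1 hη
  obtain ⟨_, ⟨g, rfl⟩, hηg, hgU⟩ :=
    PrimeSpectrum.isTopologicalBasis_basic_opens.exists_subset_of_mem_open hηU₁ hU₁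
  -- primes over `η` avoiding `g` are in the image
  have hmemT : ∀ p : Spec Γ(Y, V), η.asIdeal ≤ p.asIdeal → g ∉ p.asIdeal → p ∈ T :=
    fun p h1 h2 ↦ hU₁T ⟨hgU h2,
      specializes_iff_mem_closure.1 ((PrimeSpectrum.le_iff_specializes η p).1 h1)⟩
  have hηz' : η.asIdeal ≤ z'.asIdeal := (PrimeSpectrum.le_iff_specializes η z').2 hηz
  have hgz : g ∈ z'.asIdeal := by
    by_contra hn
    exact hz'T (hmemT z' hηz' hn)
  obtain ⟨P, ⟨hPp, hηP, hPz, hgP⟩, hPmax⟩ := (wellFounded_gt (α := Ideal Γ(Y, V))).has_min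
    {P | P.IsPrime ∧ η.asIdeal ≤ P ∧ P ≤ z'.asIdeal ∧ g ∉ P}
    ⟨η.asIdeal, η.2, le_rfl, hηz', hηg⟩
  have hPT : (⟨P, hPp⟩ : Spec Γ(Y, V)) ∈ T := hmemT _ hηP hgP
  obtain ⟨x₀, hx₀⟩ := hPT
  -- a finite point over `P`
  let j : Spec (CommRingCat.of P.ResidueField) ⟶ Y :=
    Spec.map (CommRingCat.ofHom (algebraMap Γ(Y, V) P.ResidueField)) ≫ hV.fromSpec
  have : Nonempty (pullback h j : Scheme.{u}) := by
    let b : Spec (CommRingCat.of P.ResidueField) := ⟨⊥, Ideal.isPrime_bot⟩
    obtain ⟨t, -, -⟩ := Scheme.Pullback.exists_preimage_pullback (f := h) (g := j) x₀ b (by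
      rw [hx₀, Scheme.Hom.comp_apply]
      congr 1
      exact PrimeSpectrum.ext (Ideal.ker_algebraMap_residueField P).symm)
    exact ⟨t⟩
  obtain ⟨L, _, ψ, w, hψ, hw⟩ := exists_finite_point (pullback.snd h j)
  let A := Γ(Y, V) ⧸ P
  letI : Algebra P.ResidueField L := ψ.toAlgebra
  haveI : Module.Finite P.ResidueField L := hψ
  letI : Algebra A L := (ψ.comp (algebraMap A P.ResidueField)).toAlgebra
  haveI : IsScalarTower A P.ResidueField L := IsScalarTower.of_algebraMap_eq fun _ ↦ rfl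
  haveI hfin : Module.Finite A (integralClosure A L) :=
    Calg4.finite_ic_of_isN2 (hNag.2 P) P.ResidueField L
  let B := integralClosure A L
  haveI : IsNoetherianRing B := IsNoetherianRing.of_finite A B
  haveI : IsFractionRing B L :=
    IsIntegralClosure.isFractionRing_of_finite_extension A P.ResidueField L B
  haveI : IsIntegrallyClosed B := IsIntegrallyClosed.of_isIntegrallyClosedIn B L
  have hAL : Function.Injective (algebraMap A L) := ψ.injective.comp (IsFractionRing.injective A _)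
  have hAB : Function.Injective (algebraMap A B) := fun a b e ↦ hAL (congrArg Subtype.val e)
  -- the morphism to `Y`, spread out
  let ρ : Γ(Y, V) →+* B := (algebraMap A B).comp (Ideal.Quotient.mk P)
  let π : Spec (CommRingCat.of B) ⟶ Y := Spec.map (CommRingCat.ofHom ρ) ≫ hV.fromSpec
  haveI : LocallyOfFiniteType π := by
    have : LocallyOfFiniteType (Spec.map (CommRingCat.ofHom ρ)) :=
      (HasRingHomProperty.Spec_iff (P := @LocallyOfFiniteType)).2
        ((RingHom.finite_algebraMap.2 hfin).comp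
          (RingHom.Finite.of_surjective _ Ideal.Quotient.mk_surjective)).finiteType
    exact inferInstanceAs (LocallyOfFiniteType (_ ≫ _))
  let ξ := genericPoint (Spec (CommRingCat.of B))
  let γ : CommRingCat.of B ⟶ (Spec (CommRingCat.of B)).presheaf.stalk ξ :=
    (Scheme.ΓSpecIso _).inv ≫ (Spec (CommRingCat.of B)).presheaf.germ ⊤ ξ trivial
  letI : Field ((Spec (CommRingCat.of B)).presheaf.stalk ξ) :=
    inferInstanceAs (Field (Spec (CommRingCat.of B)).functionField)
  have hγ : Function.Injective γ.hom :=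
    (germ_injective_of_isIntegral (Spec (CommRingCat.of B)) ξ (U := ⊤) trivial).comp
      (ConcreteCategory.bijective_of_isIso (Scheme.ΓSpecIso (CommRingCat.of B)).inv).1
  let e : L →+* (Spec (CommRingCat.of B)).presheaf.stalk ξ := IsFractionRing.lift hγ
  let φ := Spec.map (CommRingCat.ofHom e) ≫ w ≫ pullback.fst h j
  have hφ : φ ≫ h = (Spec (CommRingCat.of B)).fromSpecStalk ξ ≫ π := by
    simp only [φ, π, Category.assoc, pullback.condition, reassoc_of% hw, j]
    rw [Spec.fromSpecStalk_eq]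
    simp only [← Spec.map_comp_assoc]
    congr 2
    ext a
    change e (ψ (algebraMap Γ(Y, V) P.ResidueField a)) = γ.hom (ρ a)
    rw [show ψ (algebraMap Γ(Y, V) P.ResidueField a) = algebraMap B L (ρ a) from rfl]
    exact IsFractionRing.lift_algebraMap hγ _
  obtain ⟨U₀, hξU₀, u₀, -, hu₀⟩ := spread_out_of_isGermInjective' π h φ hφ
  -- the closed point
  let M : Ideal A := z'.asIdeal.map (Ideal.Quotient.mk P)
  have hMc : M.comap (Ideal.Quotient.mk P) = z'.asIdeal := by
    rw [Ideal.comap_map_of_surjective _ Ideal.Quotient.mk_surjective, ← RingHom.ker_eq_comap_bot,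
      Ideal.mk_ker, sup_eq_left.2 hPz]
  haveI hMmax : M.IsMaximal := Ideal.IsMaximal.map_of_surjective_of_ker_le
    Ideal.Quotient.mk_surjective (Ideal.mk_ker.trans_le hPz)
  obtain ⟨Q, hQmax, hQM⟩ := Ideal.exists_ideal_over_maximal_of_isIntegral (S := B) M
    ((RingHom.injective_iff_ker_eq_bot _).1 hAB ▸ bot_le)
  let c₀ : Spec (CommRingCat.of B) := ⟨Q, hQmax.isPrime⟩
  have hπc : π c₀ = z := by
    rw [← hz', Scheme.Hom.comp_apply]
    congr 1
    exact PrimeSpectrum.ext (show Q.comap ρ = _ by rw [← hMc, ← hQM, Ideal.comap_comap])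
  have hQ0 : Q ≠ ⊥ := by
    intro h0
    rw [h0, ← RingHom.ker_eq_comap_bot, (RingHom.injective_iff_ker_eq_bot _).1 hAB] at hQM
    rw [← hQM, ← RingHom.ker_eq_comap_bot, Ideal.mk_ker] at hMc
    exact hgP (hMc ▸ hgz)
  have hQ1 : ∀ Q₁ : Ideal B, Q₁.IsPrime → Q₁ ≠ ⊥ → Q₁ ≤ Q → Q₁ = Q := by
    intro Q₁ hp h0 hle
    by_contra hne'
    obtain ⟨b, hbQ, hbQ₁⟩ := SetLike.exists_of_lt (lt_of_le_of_ne hle hne')
    have hlt : Q₁.comap (algebraMap A B) < M :=
      hQM ▸ Ideal.comap_lt_comap_of_integral_mem_sdiff hle ⟨hbQ, hbQ₁⟩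
        (Algebra.IsIntegral.isIntegral b)
    refine hlt.ne (eq_of_mem_all_primes_le (g := Ideal.Quotient.mk P g) ?_ (fun q hqp hq0 hqM ↦ ?_)
      (fun hb ↦ h0 (Ideal.eq_bot_of_comap_eq_bot hb)) hlt.le)
    · rwa [Ne, Ideal.Quotient.eq_zero_iff_mem]
    · have hle' : q.comap (Ideal.Quotient.mk P) ≤ z'.asIdeal := hMc ▸ Ideal.comap_mono hqM
      have hPle : P < q.comap (Ideal.Quotient.mk P) := by
        refine lt_of_le_of_ne ?_ fun e ↦ hq0 ?_
        · intro x hx
          rw [Ideal.mem_comap, Ideal.Quotient.eq_zero_iff_mem.2 hx]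
          exact zero_mem _
        · rw [← Ideal.map_comap_of_surjective _ Ideal.Quotient.mk_surjective q, ← e,
            Ideal.map_quotient_self]
      by_contra hgq
      exact hPmax _ ⟨Ideal.IsPrime.comap _, hηP.trans hPle.le, hle', hgq⟩ hPle
  have hQh : Q.height = 1 := by
    have h1 : Q.height ≤ (1 : ℕ) := by
      rw [Ideal.height_le_iff]
      intro Q₁ hp hlt
      by_cases h0 : Q₁ = ⊥
      · subst h0
        simp [Ideal.height_bot]
      · exact absurd (hQ1 Q₁ hp h0 hlt.le) hlt.ne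
    have : (⊥ : Ideal B).FiniteHeight := ⟨Or.inr (by simp [Ideal.height_bot])⟩
    exact le_antisymm (by exact_mod_cast h1) (Order.one_le_iff_pos.2
      (pos_of_gt (Ideal.height_strict_mono_of_isPrime (bot_lt_iff_ne_bot.2 hQ0))))
  -- shrink around the closed point
  obtain ⟨_, ⟨b, rfl⟩, hξb, hbU⟩ :=
    PrimeSpectrum.isTopologicalBasis_basic_opens.exists_subset_of_mem_open hξU₀ U₀.2
  have hbQ : b ∈ Q := by
    by_contra hn
    refine hzr ?_
    rw [← hπc]
    exact ⟨u₀ ⟨c₀, hbU hn⟩, by rw [← Scheme.Hom.comp_apply, hu₀, Scheme.Hom.comp_apply]; rfl⟩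
  have hb0 : b ≠ 0 := fun h0 ↦ hξb (h0 ▸ zero_mem _)
  have hfinmin := Ideal.finite_minimalPrimes_of_isNoetherianRing B (Ideal.span {b})
  have hsel : ∀ q ∈ hfinmin.toFinset.erase Q, ∃ a ∈ q, a ∉ Q := by
    intro q hq
    rw [Finset.mem_erase, Set.Finite.mem_toFinset] at hq
    refine SetLike.not_le_iff_exists.1 fun hle ↦ hq.1 (hQ1 q hq.2.1.1 (fun h0 ↦ hb0 ?_) hle)
    exact (Submodule.mem_bot B).1 (h0 ▸ hq.2.1.2 (Ideal.mem_span_singleton_self b))
  choose a haq haQ using hsel
  let b' := ∏ q ∈ (hfinmin.toFinset.erase Q).attach, a q.1 q.2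
  have hb'Q : b' ∉ Q := by
    rw [hQmax.isPrime.prod_mem_iff]
    rintro ⟨q, -, hq⟩
    exact haQ q.1 q.2 hq
  have hkey : ∀ p : Spec (CommRingCat.of B), b' ∉ p.asIdeal → p ≠ c₀ → b ∉ p.asIdeal := by
    intro p hp hne' hbp
    obtain ⟨q, hq, hqp⟩ := Ideal.exists_minimalPrimes_le (I := Ideal.span {b}) (J := p.asIdeal)
      ((Ideal.span_singleton_le_iff_mem _).2 hbp)
    by_cases hqQ : q = Q
    · exact hne' (PrimeSpectrum.ext (hQmax.eq_of_le p.2.ne_top (hqQ ▸ hqp)).symm)
    · exact hp (hqp (Ideal.prod_mem q (Finset.mem_attach (hfinmin.toFinset.erase Q)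
        ⟨q, Finset.mem_erase.2 ⟨hqQ, hfinmin.mem_toFinset.2 hq⟩⟩) (haq _ _)))
  let Co : (Spec (CommRingCat.of B)).Opens := PrimeSpectrum.basicOpen b'
  let c : Co.toScheme := ⟨c₀, hb'Q⟩
  haveI : Nonempty Co.toScheme := ⟨c⟩
  have hcint : IsIntegral Co.toScheme := isIntegral_of_isOpenImmersion Co.ι
  have hcl : IsClosed ({c} : Set Co.toScheme) := by
    have h1 : IsClosed ({c₀} : Set (Spec (CommRingCat.of B))) :=
      (PrimeSpectrum.isClosed_singleton_iff_isMaximal _).2 hQmax
    convert h1.preimage Co.ι.continuous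
    ext p
    simp only [Set.mem_singleton_iff, Set.mem_preimage]
    exact ⟨fun e ↦ e ▸ rfl, fun e ↦ Subtype.ext e⟩
  let U : Co.toScheme.Opens := ⟨{c}ᶜ, hcl.isOpen_compl⟩
  have hUle : Set.range (U.ι ≫ Co.ι) ⊆ Set.range U₀.ι := by
    rintro _ ⟨p, rfl⟩
    rw [Scheme.Opens.range_ι]
    exact hbU (hkey _ p.1.2 fun e ↦ p.2 (Subtype.ext e))
  have hnoe : NoetherianSpace Co.toScheme := Co.ι.isOpenEmbedding.isInducing.noetherianSpace
  let aStalk (p : Spec (CommRingCat.of B)) : Algebra B ((Spec (CommRingCat.of B)).presheaf.stalk p) :=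
    StructureSheaf.stalkAlgebra B p
  have hStalk (p : Spec (CommRingCat.of B)) :
      IsLocalization.AtPrime ((Spec (CommRingCat.of B)).presheaf.stalk p) p.asIdeal :=
    StructureSheaf.IsLocalization.to_stalk B p
  refine ⟨Co.toScheme, (Co.ι ≫ π) ≫ q, hcint, inferInstance,
    ⟨fun _ _ _ ↦ NoetherianSpace.isCompact _⟩, fun p ↦ ?_, c, hcl, ?_,
    U, IsOpenImmersion.lift U₀.ι (U.ι ≫ Co.ι) hUle ≫ u₀, Co.ι ≫ π, rfl, rfl, ?_, ?_⟩
  · have : IsIntegrallyClosed ((Spec (CommRingCat.of B)).presheaf.stalk p.1) :=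
      isIntegrallyClosed_of_isLocalization (R := B) _ p.1.asIdeal.primeCompl
        p.1.asIdeal.primeCompl_le_nonZeroDivisors
    exact IsIntegrallyClosed.of_equiv (Co.stalkIso p).commRingCatIsoToRingEquiv.symm
  · rw [ringKrullDim_eq_of_ringEquiv (Co.stalkIso c).commRingCatIsoToRingEquiv,
      IsLocalization.AtPrime.ringKrullDim_eq_height c₀.asIdeal
        ((Spec (CommRingCat.of B)).presheaf.stalk c₀), show c₀.asIdeal.height = 1 from hQh]
    rfl
  · rw [Category.assoc, hu₀, IsOpenImmersion.lift_fac_assoc, Category.assoc]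
  · rw [Scheme.Hom.comp_apply]
    exact hπc ▸ hzr

end Groth.Valuative
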