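import Groth.Agent.Limits.DVRCriteria
import Mathlib.AlgebraicGeometry.FunctionField

/-!
# Valuative criteria in terms of valuation subrings of the function field
-/

set_option backward.isDefEq.respectTransparency false

universe u

open CategoryTheory Limits AlgebraicGeometry IsLocalRing

namespace Groth.Valuative

theorem valuation_lt_one_iff' {K : Type*} [Field K] (A : ValuationSubring K) (z : K) :
    A.valuation z < 1 ↔ z = 0 ∨ z⁻¹ ∉ A := by
  rcases eq_or_ne z 0 with rfl | hz
  · simp
  rw [← A.valuation_le_one_iff, map_inv₀, inv_le_one₀ (zero_lt_iff.2 (by simpa using hz)), not_le]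
  simp [hz]

theorem valuation_comap_lt_one {L K : Type*} [Field L] [Field K] (A : ValuationSubring K)
    (φ : L →+* K) (z : L) : (A.comap φ).valuation z < 1 ↔ A.valuation (φ z) < 1 := by
  simp only [valuation_lt_one_iff', ValuationSubring.mem_comap, map_inv₀,
    map_eq_zero_iff φ φ.injective]

theorem isDVR_comap {L K : Type*} [Field L] [Field K] (A : ValuationSubring K)
    [IsDiscreteValuationRing A] (φ : L →+* K) (hφ : Function.Bijective φ) :
    IsDiscreteValuationRing (A.comap φ) := by
  let g : (A.comap φ) →+* A :=
    (φ.comp (A.comap φ).subtype).codRestrict A.toSubring fun z ↦ z.2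
  have hg : Function.Bijective g :=
    ⟨fun a b hab ↦ Subtype.ext (hφ.1 (congrArg Subtype.val hab)), fun ⟨b, hb⟩ ↦ by
      obtain ⟨a, rfl⟩ := hφ.2 b
      exact ⟨⟨a, hb⟩, rfl⟩⟩
  exact IsDiscreteValuationRing.RingEquivClass.isDiscreteValuationRing
    (RingEquiv.ofBijective g hg).symm

end Groth.Valuative
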