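import Groth.Agent.Valuative.Dominate

/-!
# Properness over a neighbourhood of a point and discrete valuation rings
-/

set_option backward.isDefEq.respectTransparency false

universe u

open CategoryTheory Limits AlgebraicGeometry IsLocalRing

namespace Groth.Valuative

variable {X Y : Scheme.{u}}

theorem exists_factor_stalk {R : CommRingCat.{u}} [IsLocalRing R] (a : Spec R ⟶ Y) {y : Y}
    (hcl : a (closedPoint R) = y) :
    ∃ θ : Y.presheaf.stalk y ⟶ R, IsLocalHom θ.hom ∧ Spec.map θ ≫ Y.fromSpecStalk y = a := by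
  subst hcl
  exact ⟨Scheme.stalkClosedPointTo a, inferInstance, Scheme.Spec_stalkClosedPointTo_fromSpecStalk a⟩

theorem hom_eq_of_closedPoint {K : Type u} [Field K] (A : ValuationSubring K)
    (a b : Spec (CommRingCat.of A) ⟶ Y) {y : Y} (ha : a (closedPoint A) = y)
    (hb : b (closedPoint A) = y)
    (h : Spec.map (CommRingCat.ofHom A.subtype) ≫ a = Spec.map (CommRingCat.ofHom A.subtype) ≫ b) :
    a = b := by
  obtain ⟨θ, -, rfl⟩ := exists_factor_stalk a ha
  obtain ⟨θ', -, rfl⟩ := exists_factor_stalk b hb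
  simp only [← Spec.map_comp_assoc, cancel_mono] at h
  have h' := Spec.map_injective h
  rw [show θ = θ' from CommRingCat.hom_ext (RingHom.ext fun r ↦
    Subtype.ext (congrArg (fun m : Y.presheaf.stalk y ⟶ CommRingCat.of K ↦ m.hom r) h'))]

/-- A square through `y` dominates the local ring at `y`. -/
theorem dominate_of_square {K : Type u} [Field K] (A : ValuationSubring K)
    (a : Spec (CommRingCat.of A) ⟶ Y) {y : Y} (hcl : a (closedPoint A) = y)
    (ψ : Y.presheaf.stalk y ⟶ CommRingCat.of K)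
    (hψ : Spec.map (CommRingCat.ofHom A.subtype) ≫ a = Spec.map ψ ≫ Y.fromSpecStalk y) :
    (∀ r, A.valuation (ψ.hom r) ≤ 1) ∧
      ∀ r ∈ maximalIdeal (Y.presheaf.stalk y), A.valuation (ψ.hom r) < 1 := by
  obtain ⟨θ, hθ, rfl⟩ := exists_factor_stalk a hcl
  simp only [← Spec.map_comp_assoc, cancel_mono] at hψ
  obtain rfl := Spec.map_injective hψ
  exact ⟨fun r ↦ A.valuation_le_one (θ.hom r), fun r hr ↦
    (A.valuation_lt_one_iff _).1 fun hu ↦ hr (isUnit_of_map_unit θ.hom r hu)⟩

/-- Dominating the local ring at `y` gives a square through `y`. -/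
theorem exists_square_of_dominate {K : Type u} [Field K] (A : ValuationSubring K) {y : Y}
    (ψ : Y.presheaf.stalk y ⟶ CommRingCat.of K) (h1 : ∀ r, A.valuation (ψ.hom r) ≤ 1)
    (h2 : ∀ r ∈ maximalIdeal (Y.presheaf.stalk y), A.valuation (ψ.hom r) < 1) :
    ∃ a : Spec (CommRingCat.of A) ⟶ Y, a (closedPoint A) = y ∧
      Spec.map (CommRingCat.ofHom A.subtype) ≫ a = Spec.map ψ ≫ Y.fromSpecStalk y := by
  let θ : Y.presheaf.stalk y ⟶ CommRingCat.of A := CommRingCat.ofHom
    (ψ.hom.codRestrict A.toSubring fun r ↦ (A.valuation_le_one_iff _).1 (h1 r))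
  have : IsLocalHom θ.hom := ⟨fun r hr ↦ by
    by_contra hu
    exact (A.valuation_lt_one_iff (θ.hom r)).2 (h2 r hu) hr⟩
  refine ⟨Spec.map θ ≫ Y.fromSpecStalk y, ?_, ?_⟩
  · rw [Scheme.Hom.comp_apply, show Spec.map θ (closedPoint A) = closedPoint (Y.presheaf.stalk y)
      from comap_closedPoint θ.hom, Y.fromSpecStalk_closedPoint]
  · rw [← Spec.map_comp_assoc]
    rfl

theorem isIso_stalkSpecializes_of_eq {a b : Y} (h : a ⤳ b) (e : a = b) :
    IsIso (Y.presheaf.stalkSpecializes h) := by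
  subst e
  rw [show Y.presheaf.stalkSpecializes h = 𝟙 _ from Y.presheaf.stalkSpecializes_refl a]
  infer_instance

theorem spec_stalkMap_genericPoint [IrreducibleSpace X] (f : X ⟶ Y) {y : Y}
    (hξ : f (genericPoint X) ⤳ y) :
    Spec.map (Y.presheaf.stalkSpecializes hξ ≫ f.stalkMap (genericPoint X)) ≫ Y.fromSpecStalk y =
      X.fromSpecStalk (genericPoint X) ≫ f := by
  rw [Spec.map_comp, Category.assoc, Scheme.SpecMap_stalkSpecializes_fromSpecStalk,
    Scheme.SpecMap_stalkMap_fromSpecStalk]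

end Groth.Valuative
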